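import Cfsg.Agent.H157.Ab.Rows

/-!
# A coprime abelian group acting on an abelian `p`-group (helper507; `X1c` of H157/Ab/Rows)

* `x1c` : `|S| · |C_Z(S)| ≤ |Z|` for an abelian `p'`-group `S` of automorphisms of a finite abelian `p`-group `Z`.

Proof: for `T ≤ S` let `K_T` be the kernel of the norm `z ↦ ∏_{t ∈ T} t z`; `C_Z(T) ∩ K_T = 1`.  An element `z` of `K_S`
with `|C_S(z)|` minimal has a trivial stabiliser, and `(s, c) ↦ s z · c` is injective on `S × C_Z(S)`.
-/

set_option autoImplicit false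
set_option linter.unusedSectionVars false

namespace Cfsg.Agent.H507.Ab

open Subgroup Cfsg.Agent.H157.Ab

section Cop

variable {p : ℕ} [Fact p.Prime] {Z : Type} [CommGroup Z] [Finite Z]

/-- the norm of `z` under the subgroup `T` -/
noncomputable def nm (T : Subgroup (MulAut Z)) (z : Z) : Z := ∏ᶠ t : T, (t : MulAut Z) z

theorem nm_mul (T : Subgroup (MulAut Z)) (z w : Z) : nm T (z * w) = nm T z * nm T w := by
  unfold nm
  have : Finite T := inferInstance
  rw [← finprod_mul_distrib (Set.toFinite _) (Set.toFinite _)]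
  simp [map_mul]

theorem nm_one (T : Subgroup (MulAut Z)) : nm T (1 : Z) = 1 := by
  unfold nm
  simp

theorem nm_inv (T : Subgroup (MulAut Z)) (z : Z) : nm T z⁻¹ = (nm T z)⁻¹ := by
  have h := nm_mul T z⁻¹ z
  rw [inv_mul_cancel, nm_one] at h
  exact eq_inv_of_mul_eq_one_left h.symm

theorem nm_apply {T : Subgroup (MulAut Z)} {t : MulAut Z} (ht : t ∈ T) (z : Z) : nm T (t z) = nm T z := by
  unfold nm
  exact finprod_comp_equiv (f := fun i : T => (i : MulAut Z) z) (Equiv.mulRight (⟨t, ht⟩ : T))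

theorem nm_comm {T : Subgroup (MulAut Z)} {s : MulAut Z} (hs : ∀ t ∈ T, t * s = s * t) (z : Z) :
    nm T (s z) = s (nm T z) := by
  unfold nm
  have : Finite T := inferInstance
  have h : s (∏ᶠ t : T, (t : MulAut Z) z) = ∏ᶠ t : T, s ((t : MulAut Z) z) :=
    (s : Z →* Z).map_finprod (Set.toFinite _)
  rw [h]
  refine finprod_congr fun t => ?_
  exact DFunLike.congr_fun (hs t t.2) z

theorem nm_fixed {T : Subgroup (MulAut Z)} {z : Z} (hz : ∀ t ∈ T, t z = z) : nm T z = z ^ Nat.card T := by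
  unfold nm
  have h : (fun t : T => (t : MulAut Z) z) = fun _ => z := funext fun t => hz t t.2
  rw [h]
  have : Fintype T := Fintype.ofFinite T
  rw [finprod_eq_prod_of_fintype, Finset.prod_const, Nat.card_eq_fintype_card, Finset.card_univ]

/-- `C_Z(T) ∩ K_T = 1` -/
theorem eq_one (hZ : IsPGroup p Z) {T : Subgroup (MulAut Z)} (hT : ¬ p ∣ Nat.card T) {z : Z}
    (hz : ∀ t ∈ T, t z = z) (hn : nm T z = 1) : z = 1 := by
  rw [nm_fixed hz] at hn
  obtain ⟨k, hk⟩ := hZ z
  have h1 := orderOf_dvd_of_pow_eq_one hn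
  have h2 := orderOf_dvd_of_pow_eq_one hk
  have hpp : p.Prime := Fact.out
  have h3 : Nat.Coprime (Nat.card T) (p ^ k) := ((hpp.coprime_iff_not_dvd.2 hT).symm).pow_right k
  have h4 := Nat.dvd_gcd h1 h2
  rw [h3.gcd_eq_one, Nat.dvd_one] at h4
  exact orderOf_eq_one_iff.1 h4

end Cop

theorem x1c : X1c := by
  intro p _ Z _ _ hZ S hS hpS
  have hcard : ∀ T : Subgroup (MulAut Z), T ≤ S → ¬ p ∣ Nat.card T := fun T hT h =>
    hpS (h.trans (Subgroup.card_dvd_of_le hT))
  -- the stabiliser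
  let st : Z → Subgroup (MulAut Z) := fun z => S ⊓ MulAction.stabilizer (MulAut Z) z
  have hst : ∀ z (t : MulAut Z), t ∈ st z ↔ t ∈ S ∧ t z = z := fun z t => by
    simp only [st, mem_inf, MulAction.mem_stabilizer_iff, MulAut.smul_def]
  -- an element of `K_S` with minimal stabiliser
  obtain ⟨z, hz, hmin⟩ : ∃ z : Z, nm S z = 1 ∧ ∀ w : Z, nm S w = 1 → Nat.card (st z) ≤ Nat.card (st w) := by
    have hne : {z : Z | nm S z = 1}.Nonempty := ⟨1, nm_one S⟩
    obtain ⟨z, hz, hz2⟩ := Set.exists_min_image _ (fun z => Nat.card (st z)) (Set.toFinite _) hne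
    exact ⟨z, hz, fun w hw => hz2 w hw⟩
  have hst1 : ∀ t ∈ S, t z = z → t = 1 := by
    intro t htS htz
    by_contra ht1
    -- an element moved by `t`
    obtain ⟨z0, hz0⟩ : ∃ z0, t z0 ≠ z0 := by
      by_contra hcon
      push Not at hcon
      exact ht1 (MulEquiv.ext hcon)
    set T := st z with hT
    have htT : t ∈ T := (hst z t).2 ⟨htS, htz⟩
    set w := t z0 * z0⁻¹ with hw
    have hw1 : w ≠ 1 := fun h => hz0 (mul_inv_eq_one.1 h)
    have hwS : nm S w = 1 := by rw [hw, nm_mul, nm_inv, nm_apply htS, mul_inv_cancel]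
    have hwT : nm T w = 1 := by rw [hw, nm_mul, nm_inv, nm_apply htT, mul_inv_cancel]
    have hTS : T ≤ S := inf_le_left
    have hcomm : ∀ a ∈ S, ∀ b ∈ S, a * b = b * a := hS
    -- the stabiliser of `z w`
    have hsep : ∀ s ∈ S, s (z * w) = z * w → s z = z ∧ s w = w := by
      intro s hs hsz
      have h1 : s z * z⁻¹ = w * (s w)⁻¹ := by
        rw [map_mul] at hsz
        calc s z * z⁻¹ = (s z * z⁻¹) * (s w * (s w)⁻¹) := by rw [mul_inv_cancel, mul_one]
          _ = (s z * s w) * (z⁻¹ * (s w)⁻¹) := mul_mul_mul_comm _ _ _ _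
          _ = (z * w) * (z⁻¹ * (s w)⁻¹) := by rw [hsz]
          _ = (z * z⁻¹) * (w * (s w)⁻¹) := mul_mul_mul_comm _ _ _ _
          _ = w * (s w)⁻¹ := by rw [mul_inv_cancel, one_mul]
      have h2 : s z * z⁻¹ = 1 := by
        refine eq_one (p := p) hZ (T := T) (hcard T hTS) ?_ ?_
        · intro u hu
          have h3 : u z = z := ((hst z u).1 hu).2
          have h4 : u (s z) = s z := by
            have h5 : u (s z) = s (u z) := DFunLike.congr_fun (hcomm u (hTS hu) s hs) z
            rw [h5, h3]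
          rw [map_mul, map_inv, h3, h4]
        · rw [h1, nm_mul, nm_inv, hwT, nm_comm (fun u hu => hcomm u (hTS hu) s hs), hwT, map_one, inv_one, one_mul]
      have h3 : s z = z := mul_inv_eq_one.1 h2
      refine ⟨h3, ?_⟩
      rw [map_mul, h3] at hsz
      exact mul_left_cancel hsz
    have hle : st (z * w) ≤ T := by
      intro s hs
      obtain ⟨h1, h2⟩ := (hst _ s).1 hs
      exact (hst z s).2 ⟨h1, (hsep s h1 h2).1⟩
    have hlt : st (z * w) < T := by
      refine lt_of_le_of_ne hle fun heq => hw1 ?_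
      refine eq_one (p := p) hZ (T := T) (hcard T hTS) ?_ hwT
      intro u hu
      rw [← heq] at hu
      obtain ⟨h1, h2⟩ := (hst _ u).1 hu
      exact (hsep u h1 h2).2
    have hnm : nm S (z * w) = 1 := by rw [nm_mul, hz, hwS, one_mul]
    have h1 := hmin _ hnm
    have h2 : Nat.card (st (z * w)) < Nat.card T := by
      exact Set.Finite.card_lt_card (Set.toFinite _) (SetLike.coe_ssubset_coe.2 hlt)
    omega
  -- the injection
  have hinj : Function.Injective (fun x : S × {c : Z // ∀ s ∈ S, s c = c} => (x.1 : MulAut Z) z * (x.2 : Z)) := by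
    rintro ⟨s, c⟩ ⟨s', c'⟩ h
    change (s : MulAut Z) z * (c : Z) = (s' : MulAut Z) z * (c' : Z) at h
    have h1 : (c : Z) * (c' : Z)⁻¹ = (s' : MulAut Z) z * ((s : MulAut Z) z)⁻¹ := by
      rw [mul_inv_eq_iff_eq_mul, mul_assoc, mul_comm _ (c' : Z), ← mul_assoc, ← h]
      rw [mul_comm ((s : MulAut Z) z), mul_assoc, mul_inv_cancel, mul_one]
    have h2 : (c : Z) * (c' : Z)⁻¹ = 1 := by
      refine eq_one (p := p) hZ (T := S) hpS ?_ ?_
      · intro u hu
        rw [map_mul, map_inv, c.2 u hu, c'.2 u hu]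
      · rw [h1, nm_mul, nm_inv, nm_apply s'.2, nm_apply s.2, hz, inv_one, one_mul]
    have h3 : (c : Z) = c' := mul_inv_eq_one.1 h2
    have h4 : (s : MulAut Z) z = (s' : MulAut Z) z := by
      rw [h3] at h
      exact mul_right_cancel h
    have h5 : ((s' : MulAut Z)⁻¹ * s) z = z := by
      change (s' : MulAut Z)⁻¹ ((s : MulAut Z) z) = z
      rw [h4]
      exact MulAut.inv_apply_self Z _ _
    have h6 := hst1 _ (mul_mem (inv_mem s'.2) s.2) h5
    have h7 : (s : MulAut Z) = s' := (inv_mul_eq_one.1 h6).symm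
    exact Prod.ext (Subtype.ext h7) (Subtype.ext h3)
  have h := Nat.card_le_card_of_injective _ hinj
  rwa [Nat.card_prod] at h

end Cfsg.Agent.H507.Ab
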